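import Cfsg.Agent.CosetEnum.HeOrder.Lower
import Cfsg.Agent.CosetEnum.HeH.Orbits
import Cfsg.Agent.CosetEnum.HeC.Bound
import Cfsg.Agent.CosetEnum.HeB.Bound
import Cfsg.Agent.CosetEnum.HeK.Bound

set_option autoImplicit false
set_option maxRecDepth 100000

/-! The order of the presented Held group and faithfulness of its action on 2058 cosets. -/

namespace CfsgLib.CosetEnum.He

/-- The group is finite of order at most 4030387200. -/
theorem finite_and_card_le : Finite setup.Grp ∧ Nat.card setup.Grp ≤ 4030387200 := by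
  have h1 := HeC.bound 1 ⟨setup.finite_letSub_nil, setup.card_letSub_nil⟩
  have h2 := HeB.bound _ h1
  have h3 := HeK.bound _ h2
  have htop : setup.letSub HeK.enum.L = ⊤ := setup.letSub_all _ (by
    intro x hx
    have hx' : x < 7 := hx
    interval_cases x <;> decide +kernel)
  rw [htop] at h3
  haveI := h3.1
  refine ⟨Finite.of_equiv _ Subgroup.topEquiv.toEquiv, ?_⟩
  rw [← Nat.card_congr (Subgroup.topEquiv (G := setup.Grp)).toEquiv]
  exact h3.2.trans (by decide +kernel)

theorem finite_grp : Finite setup.Grp := finite_and_card_le.1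

/-- The coset action, with the order of the group and faithfulness. -/
theorem order_and_action :
    ∃ (φ : setup.Grp →* Equiv.Perm (Fin HeH.enum.n)) (e : setup.Grp ⧸ HeH.enum.H ≃ Fin HeH.enum.n),
      (∀ (w : List ℕ), (∀ x ∈ w, x < setup.k) → ∀ i : Fin HeH.enum.n,
        ((φ (prodw setup.g w))⁻¹ i).val = walk HeH.enum.tb w i) ∧
      (∀ (y : setup.Grp) (q : setup.Grp ⧸ HeH.enum.H), e (y • q) = φ y (e q)) ∧
      e ((1 : setup.Grp) : setup.Grp ⧸ HeH.enum.H) = 0 ∧
      Function.Injective φ ∧ Nat.card setup.Grp = 4030387200 := by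
  haveI := finite_grp
  obtain ⟨φ, e, hφ, he, he0⟩ := HeH.action
  obtain ⟨hcard, hinj⟩ := card_eq_and_injective (φ := φ) finite_and_card_le.2 (HeH.card_range_ge_order φ hφ)
  exact ⟨φ, e, hφ, he, he0, hinj, hcard⟩

/-- The order of the presented Held group. -/
theorem card_He : Nat.card Cfsg.Spor.He = 4030387200 := by
  obtain ⟨-, -, -, -, -, -, h⟩ := order_and_action
  exact h

end CfsgLib.CosetEnum.He
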